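import Cfsg.Agent.H946.KZ.Rows
import Cfsg.Agent.H899.Cyc.CycOut

/-!
# Index gaps for `F₄(q)`, `E₆(q)`, `²E₆(q)`, `E₇(q)`, `E₈(q)` (helper946, for S3561 and S3679)

`iGap_f4` etc. : every proper subgroup has index divisible by a cyclic prime.
-/

set_option autoImplicit false

namespace Cfsg.Agent.H946.KZ

open Cfsg Cfsg.Agent.OrdDiv Cfsg.Agent.H436 Cfsg.Agent.H902 Cfsg.Agent.H56.Exc Cfsg.Agent.H915.GN
  Cfsg.Agent.H264.FKS Cfsg.Agent.H563.KG Cfsg.Agent.H899.CG

universe u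

/-- big primes are weakly cyclic -/
theorem cycW_of_big {T : Type*} [Group T] [Finite T] {r m e : ℕ} (h : Big T r m e) (hd : r ∣ Nat.card T) : CycW T r := by
  refine ⟨h.prime, hd, fun x y hx hy hxy => ?_⟩
  exact mem_zpowers_of_cyclic (h.cyc x hx) (Subgroup.mem_centralizer_singleton_iff.2 rfl)
    (Subgroup.mem_centralizer_singleton_iff.2 hxy.symm) (by rw [hx, hy])

/-- without an index gap -/
theorem not_dvd_index {T : Type u} [Group T] [Finite T] [IsSimpleGroup T] (hna : ¬ ∀ a b : T, a * b = b * a)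
    {g : Grp} {p f : ℕ} (hp : p.Prime) (hf : 1 ≤ f) (hn : IsNamed g T) (hch : HasChar p g) (hfld : fld g = p ^ f)
    (hdiag : ∀ s, NoDiag s g) {M : Subgroup T} (h : ¬ IGap T M) {r m e : ℕ} (hb : Big T r m e) (h5 : 5 ≤ r)
    (hrf : ¬ r ∣ f) (hd : r ∣ Nat.card T) : ¬ r ∣ M.index := fun hdi =>
  h ⟨r, cyc_of_weak hna hp hn hch h5 (by rw [hfld]; exact (ndf_iff hp hf).2 hrf) (hdiag r) (cycW_of_big hb hd), hdi⟩

theorem not_dvd_of_lt {r f : ℕ} (hf : 1 ≤ f) (h : f < r) : ¬ r ∣ f := fun hd => by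
  have := Nat.le_of_dvd (by omega) hd
  omega

theorem zs_not_dvd {p f c r : ℕ} (hp : p.Prime) (hf : 1 ≤ f) (hc : 1 ≤ c) (h : Prim p (c * f) r) : ¬ r ∣ f := by
  have h1 : 1 * f ≤ c * f := Nat.mul_le_mul_right _ hc
  have h2 := lt_of_prim hp.two_le (by omega) h
  exact not_dvd_of_lt hf (by omega)

variable (tb : OrderTable.{0}) (hcyc : CycFixSolv.{0}) (hcf : CF)

section F4

variable {F : Type} [Field F] [Fintype F]

theorem bigF4 {q c r : ℕ} (hq : Fintype.card F = q) (hc : c = 12 ∨ c = 8) (hr : Prim q c r) :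
    Big ↥(Lie.chevF4.group F) r (Ph c q) c := by
  have hq1 : 1 ≤ q := by rw [← hq]; exact Fintype.card_pos
  rcases hc with rfl | rfl
  · refine big_F4_12 hq ?_ hr
    rw [cast_Ph12 _ hq1]; ring
  · refine big_F4_8 hq ?_ hr
    rw [cast_Ph8]; ring

include tb in
theorem dvdF4 {q c r : ℕ} (hq : Fintype.card F = q) (hc : c = 12 ∨ c = 8) (hr : Prim q c r) :
    r ∣ Nat.card ↥(Lie.chevF4.group F) := by
  have hT := named_f4 (F := F) tb
  rw [hq] at hT
  refine dvd_card_of hT hr.prime (den_pos hT.cond) (lt_of_le_of_lt (show 1 ≤ 1 from le_rfl) hr.prime.one_lt)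
    ((hr.dvd dvd_rfl).trans ?_)
  show _ ∣ q ^ 24 * ((q ^ 2 - 1) * (q ^ 6 - 1) * (q ^ 8 - 1) * (q ^ 12 - 1))
  rcases hc with rfl | rfl
  · exact (Dvd.intro_left _ rfl).trans (Dvd.intro_left _ rfl)
  · exact ((Dvd.intro_left _ rfl).trans (Dvd.intro _ rfl)).trans (Dvd.intro_left _ rfl)

include tb hcyc hcf in
theorem iGap_chevF4 [IsSimpleGroup ↥(Lie.chevF4.group F)] (hna : ¬ ∀ a b : ↥(Lie.chevF4.group F), a * b = b * a)
    {B : Subgroup ↥(Lie.chevF4.group F)} (hB : B ≠ ⊤) : IGap ↥(Lie.chevF4.group F) B := by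
  obtain ⟨p, f, _, hp, hf, hq⟩ := exists_pf F
  have hT := named_f4 (F := F) tb
  rw [hq] at hT
  have hq2 : 2 ≤ p ^ f := hp.two_le.trans (Nat.le_self_pow (by omega) p)
  have hmem : ∀ c ∈ [12, 8], c = 12 ∨ c = 8 := by decide
  by_contra hcon
  apply hB
  have key : ∀ c ∈ [12, 8], ∀ r, Prim (p ^ f) c r → ¬ r ∣ f → ¬ r ∣ B.index := by
    intro c hc r hr hrf
    refine not_dvd_index hna hp hf hT (show HasChar p (.f4 (p ^ f)) from ⟨f, rfl⟩) rfl (fun s => trivial) hcon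
      (bigF4 hq (hmem c hc) hr) ?_ hrf (dvdF4 tb hq (hmem c hc) hr)
    have := hmem c hc
    have := lt_of_prim hq2 (by omega) hr
    omega
  by_cases h9 : 9 ≤ f
  · exact KZ_F4 tb hcyc hcf hp h9 hq B fun c hc r hr => key c hc r (prim_base hf hr)
      (zs_not_dvd hp hf (by have := hmem c hc; omega) hr)
  · refine K_F4 tb hcyc hcf B fun c hc r hr => ?_
    rw [hq] at hr
    have := hmem c hc
    have := lt_of_prim hq2 (by omega) hr
    exact key c hc r hr (not_dvd_of_lt hf (by omega))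

end F4

section E8

variable {F : Type} [Field F] [Fintype F]

theorem bigE8 {q c r : ℕ} (hq : Fintype.card F = q) (hc : c = 20 ∨ c = 24) (hr : Prim q c r) :
    Big ↥(Lie.chevE8.group F) r (Ph c q) c := by
  have hq1 : 1 ≤ q := by rw [← hq]; exact Fintype.card_pos
  rcases hc with rfl | rfl
  · refine big_E8_20 hq ?_ hr
    rw [cast_Ph20 _ hq1]; ring
  · refine big_E8_24 hq ?_ hr
    rw [cast_Ph24 _ hq1]; ring

include tb in
theorem dvdE8 {q c r : ℕ} (hq : Fintype.card F = q) (hc : c = 20 ∨ c = 24) (hr : Prim q c r) :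
    r ∣ Nat.card ↥(Lie.chevE8.group F) := by
  have hT := named_e8 (F := F) tb
  rw [hq] at hT
  refine dvd_card_of hT hr.prime (den_pos hT.cond) (lt_of_le_of_lt (show 1 ≤ 1 from le_rfl) hr.prime.one_lt)
    ((hr.dvd dvd_rfl).trans ?_)
  show _ ∣ q ^ 120 * ((q ^ 2 - 1) * (q ^ 8 - 1) * (q ^ 12 - 1) * (q ^ 14 - 1) * (q ^ 18 - 1) * (q ^ 20 - 1) *
    (q ^ 24 - 1) * (q ^ 30 - 1))
  rcases hc with rfl | rfl
  · exact (((Dvd.intro_left _ rfl).trans (Dvd.intro _ rfl)).trans (Dvd.intro _ rfl)).trans (Dvd.intro_left _ rfl)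
  · exact ((Dvd.intro_left _ rfl).trans (Dvd.intro _ rfl)).trans (Dvd.intro_left _ rfl)

include tb hcyc hcf in
theorem iGap_chevE8 [IsSimpleGroup ↥(Lie.chevE8.group F)] (hna : ¬ ∀ a b : ↥(Lie.chevE8.group F), a * b = b * a)
    {B : Subgroup ↥(Lie.chevE8.group F)} (hB : B ≠ ⊤) : IGap ↥(Lie.chevE8.group F) B := by
  obtain ⟨p, f, _, hp, hf, hq⟩ := exists_pf F
  have hT := named_e8 (F := F) tb
  rw [hq] at hT
  have hq2 : 2 ≤ p ^ f := hp.two_le.trans (Nat.le_self_pow (by omega) p)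
  have hmem : ∀ c ∈ [20, 24], c = 20 ∨ c = 24 := by decide
  by_contra hcon
  apply hB
  have key : ∀ c ∈ [20, 24], ∀ r, Prim (p ^ f) c r → ¬ r ∣ f → ¬ r ∣ B.index := by
    intro c hc r hr hrf
    refine not_dvd_index hna hp hf hT (show HasChar p (.e8 (p ^ f)) from ⟨f, rfl⟩) rfl (fun s => trivial) hcon
      (bigE8 hq (hmem c hc) hr) ?_ hrf (dvdE8 tb hq (hmem c hc) hr)
    have := hmem c hc
    have := lt_of_prim hq2 (by omega) hr
    omega
  by_cases h32 : 32 ≤ f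
  · exact KZ_E8 tb hcyc hcf hp h32 hq B fun c hc r hr => key c hc r (prim_base hf hr)
      (zs_not_dvd hp hf (by have := hmem c hc; omega) hr)
  · refine K_E8 tb hcyc hcf B fun c hc r hr => ?_
    rw [hq] at hr
    refine key c hc r hr (not_dvd_of_lt hf ?_)
    rcases hmem c hc with rfl | rfl
    · have h1 := lt_of_prim hq2 (by omega) hr
      have h2 := mod_of_prim hq2 (by omega) hr
      have h3 : r ≠ 21 := by
        rintro rfl
        exact absurd hr.prime (by norm_num)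
      omega
    · have h1 := lt_of_prim hq2 (by omega) hr
      have h2 := mod_of_prim hq2 (by omega) hr
      have h3 : r ≠ 25 := by
        rintro rfl
        exact absurd hr.prime (by norm_num)
      omega

end E8

section E7

variable {F : Type} [Field F] [Fintype F]

include tb in
theorem dvdE7 {q c r : ℕ} (hq : Fintype.card F = q) (hc : c = 9 ∨ c = 14) (hr : Prim q c r) :
    r ∣ Nat.card ↥(Lie.chevE7.group F) := by
  have hT := named_e7 (F := F) tb
  rw [hq] at hT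
  have hq2 : 2 ≤ q := by rw [← hq]; exact Fintype.one_lt_card
  have h1 := lt_of_prim hq2 (by omega) hr
  refine dvd_card_of hT hr.prime (den_pos hT.cond) (lt_of_le_of_lt (Nat.gcd_le_left _ (by norm_num)) (by omega))
    ((dvd_Ph (by unfold Cls; omega) (by omega) hr).trans (ph_dvd_num (by omega) (by omega)))

include tb hcyc hcf in
theorem iGap_chevE7 [IsSimpleGroup ↥(Lie.chevE7.group F)] (hna : ¬ ∀ a b : ↥(Lie.chevE7.group F), a * b = b * a)
    {B : Subgroup ↥(Lie.chevE7.group F)} (hB : B ≠ ⊤) : IGap ↥(Lie.chevE7.group F) B := by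
  obtain ⟨p, f, _, hp, hf, hq⟩ := exists_pf F
  have hT := named_e7 (F := F) tb
  rw [hq] at hT
  have hq2 : 2 ≤ p ^ f := hp.two_le.trans (Nat.le_self_pow (by omega) p)
  have hmem : ∀ c ∈ [9, 14], c = 9 ∨ c = 14 := by decide
  by_contra hcon
  apply hB
  have key : ∀ c ∈ [9, 14], ∀ r, Prim (p ^ f) c r → ¬ r ∣ f → ¬ r ∣ B.index := by
    intro c hc r hr hrf
    refine not_dvd_index hna hp hf hT (show HasChar p (.e7 (p ^ f)) from ⟨f, rfl⟩) rfl (fun s => trivial) hcon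
      (big7 (by have := hmem c hc; omega) hq hr) ?_ hrf (dvdE7 tb hq (hmem c hc) hr)
    have := hmem c hc
    have := lt_of_prim hq2 (by omega) hr
    omega
  by_cases h19 : 19 ≤ f
  · exact KZ_E7 tb hcyc hcf hp h19 hq B fun c hc r hr => key c hc r (prim_base hf hr)
      (zs_not_dvd hp hf (by have := hmem c hc; omega) hr)
  · refine K_E7a tb hcyc hcf B fun c hc r hr => ?_
    rw [hq] at hr
    refine key c hc r hr (not_dvd_of_lt hf ?_)
    rcases hmem c hc with rfl | rfl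
    · have h1 := lt_of_prim hq2 (by omega) hr
      have h2 := mod_of_prim hq2 (by omega) hr
      have h3 : r ≠ 10 := by
        rintro rfl
        exact absurd hr.prime (by norm_num)
      omega
    · have h1 := lt_of_prim hq2 (by omega) hr
      have h2 := mod_of_prim hq2 (by omega) hr
      have h3 : r ≠ 15 := by
        rintro rfl
        exact absurd hr.prime (by norm_num)
      omega

end E7

section E6

variable {F : Type} [Field F] [Fintype F]

theorem bigE6 {q c r : ℕ} (hq : Fintype.card F = q) (hc : c = 9 ∨ c = 12) (hr : Prim q c r) :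
    Big ↥(Lie.chevE6.group F) r (ME q c) c := by
  have hq1 : 1 ≤ q := by rw [← hq]; exact Fintype.card_pos
  rcases hc with rfl | rfl
  · refine big_E6_9 hq (m := Ph 9 q) ?_ hr
    rw [cast_Ph9]; ring
  · refine big_E6_12 hq (m := Ph 12 q * (q ^ 2 + q + 1)) ?_ hr
    rw [Nat.cast_mul, cast_Ph12 _ hq1]; push_cast; ring

include tb in
theorem dvdE6 {q c r : ℕ} (hq : Fintype.card F = q) (hc : c = 9 ∨ c = 12) (hr : Prim q c r) :
    r ∣ Nat.card ↥(Lie.chevE6.group F) := by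
  have hT := named_e6 (F := F) tb
  rw [hq] at hT
  have hq2 : 2 ≤ q := by rw [← hq]; exact Fintype.one_lt_card
  have h1 := lt_of_prim hq2 (by omega) hr
  refine dvd_card_of hT hr.prime (den_pos hT.cond) (lt_of_le_of_lt (Nat.gcd_le_left _ (by norm_num)) (by omega))
    ((hr.dvd dvd_rfl).trans ?_)
  show _ ∣ q ^ 36 * ((q ^ 2 - 1) * (q ^ 5 - 1) * (q ^ 6 - 1) * (q ^ 8 - 1) * (q ^ 9 - 1) * (q ^ 12 - 1))
  refine Dvd.dvd.mul_left ?_ _
  rcases hc with rfl | rfl
  · exact (Dvd.intro_left _ rfl).trans (Dvd.intro _ rfl)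
  · exact Dvd.intro_left _ rfl

include tb hcyc hcf in
theorem iGap_chevE6 [IsSimpleGroup ↥(Lie.chevE6.group F)] (hna : ¬ ∀ a b : ↥(Lie.chevE6.group F), a * b = b * a)
    {B : Subgroup ↥(Lie.chevE6.group F)} (hB : B ≠ ⊤) : IGap ↥(Lie.chevE6.group F) B := by
  obtain ⟨p, f, _, hp, hf, hq⟩ := exists_pf F
  have hT := named_e6 (F := F) tb
  rw [hq] at hT
  have hq2 : 2 ≤ p ^ f := hp.two_le.trans (Nat.le_self_pow (by omega) p)
  have hmem : ∀ c ∈ [9, 12], c = 9 ∨ c = 12 := by decide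
  by_contra hcon
  apply hB
  have key : ∀ c ∈ [9, 12], ∀ r, Prim (p ^ f) c r → ¬ r ∣ f → ¬ r ∣ B.index := by
    intro c hc r hr hrf
    refine not_dvd_index hna hp hf hT (show HasChar p (.e6 (p ^ f)) from ⟨f, rfl⟩) rfl (fun s => trivial) hcon
      (bigE6 hq (hmem c hc) hr) ?_ hrf (dvdE6 tb hq (hmem c hc) hr)
    have := hmem c hc
    have := lt_of_prim hq2 (by omega) hr
    omega
  by_cases h13 : 13 ≤ f
  · exact KZ_E6 tb hcyc hcf hp h13 hq B fun c hc r hr => key c hc r (prim_base hf hr)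
      (zs_not_dvd hp hf (by have := hmem c hc; omega) hr)
  · refine K_E6 tb hcyc hcf B fun c hc r hr => ?_
    rw [hq] at hr
    refine key c hc r hr (not_dvd_of_lt hf ?_)
    rcases hmem c hc with rfl | rfl
    · have h1 := lt_of_prim hq2 (by omega) hr
      have h2 := mod_of_prim hq2 (by omega) hr
      have h3 : r ≠ 10 := by
        rintro rfl
        exact absurd hr.prime (by norm_num)
      omega
    · have h1 := lt_of_prim hq2 (by omega) hr
      omega

theorem bigTE6 {q c r : ℕ} (hq : IsPrimePow q) (hK : Fintype.card F = q ^ 2) (hc : c = 18 ∨ c = 12)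
    (hr : Prim q c r) : Big ↥(Lie.twistedE6 F q) r (MT q c) (ET c) := by
  have hq1 : 1 ≤ q := hq.pos
  have hle : q ≤ q ^ 2 := Nat.le_self_pow (by norm_num) _
  rcases hc with rfl | rfl
  · refine big_TE6_18 hq hK (m := Ph 18 q) ?_ hr
    rw [cast_Ph18 _ hq1]; ring
  · refine big_TE6_12 hq hK (m := Ph 12 q * (q ^ 2 - q + 1)) ?_ hr
    rw [Nat.cast_mul, cast_Ph12 _ hq1, Nat.cast_add, Nat.cast_sub hle]; push_cast; ring

include tb in
theorem dvdTE6 {q c r : ℕ} (hq : IsPrimePow q) (hK : Fintype.card F = q ^ 2) (hc : c = 18 ∨ c = 12)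
    (hr : Prim q c r) : r ∣ Nat.card ↥(Lie.twistedE6 F q) := by
  have hT := named_te6 (F := F) tb hq hK
  have hq2 : 2 ≤ q := hq.two_le
  have h1 := lt_of_prim hq2 (by omega) hr
  refine dvd_card_of hT hr.prime (den_pos hT.cond) (lt_of_le_of_lt (Nat.gcd_le_left _ (by norm_num)) (by omega)) ?_
  show _ ∣ q ^ 36 * ((q ^ 2 - 1) * (q ^ 5 + 1) * (q ^ 6 - 1) * (q ^ 8 - 1) * (q ^ 9 + 1) * (q ^ 12 - 1))
  refine Dvd.dvd.mul_left ?_ _
  rcases hc with rfl | rfl
  · exact ((dvd_Ph c18 (by omega) hr).trans (Ph18_dvd (by omega))).trans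
      ((Dvd.intro_left _ rfl).trans (Dvd.intro _ rfl))
  · exact (hr.dvd dvd_rfl).trans (Dvd.intro_left _ rfl)

include tb hcyc hcf in
theorem iGap_twE6 {q : ℕ} (hq : IsPrimePow q) (hK : Fintype.card F = q ^ 2) [IsSimpleGroup ↥(Lie.twistedE6 F q)]
    (hna : ¬ ∀ a b : ↥(Lie.twistedE6 F q), a * b = b * a)
    {B : Subgroup ↥(Lie.twistedE6 F q)} (hB : B ≠ ⊤) : IGap ↥(Lie.twistedE6 F q) B := by
  obtain ⟨p, f, _, hp, hf, rfl⟩ := exists_pf' hq hK
  have hT := named_te6 (F := F) tb hq hK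
  have hq2 : 2 ≤ p ^ f := hp.two_le.trans (Nat.le_self_pow (by omega) p)
  have hmem : ∀ c ∈ [18, 12], c = 18 ∨ c = 12 := by decide
  by_contra hcon
  apply hB
  have key : ∀ c ∈ [18, 12], ∀ r, Prim (p ^ f) c r → ¬ r ∣ f → ¬ r ∣ B.index := by
    intro c hc r hr hrf
    refine not_dvd_index hna hp hf hT (show HasChar p (.te6 (p ^ f)) from ⟨f, rfl⟩) rfl (fun s => trivial) hcon
      (bigTE6 hq hK (hmem c hc) hr) ?_ hrf (dvdTE6 tb hq hK (hmem c hc) hr)
    have := hmem c hc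
    have := lt_of_prim hq2 (by omega) hr
    omega
  by_cases h13 : 13 ≤ f
  · exact KZ_TE6 tb hcyc hcf hp h13 hK B fun c hc r hr => key c hc r (prim_base hf hr)
      (zs_not_dvd hp hf (by have := hmem c hc; omega) hr)
  · refine K_TE6 tb hcyc hcf hq hK B fun c hc r hr => ?_
    have := hmem c hc
    have := lt_of_prim hq2 (by omega) hr
    exact key c hc r hr (not_dvd_of_lt hf (by omega))

end E6

section named

variable {T : Type u} [Group T] [Finite T] [IsSimpleGroup T] (hna : ¬ ∀ a b : T, a * b = b * a) {q : ℕ}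
  {M : Subgroup T} (hM : M ≠ ⊤)

include hna hM in
/-- transport to a model -/
theorem iGap_of_model {G : Type} [Group G] (e : T ≃* G)
    (h : ∀ [IsSimpleGroup G], (¬ ∀ a b : G, a * b = b * a) → ∀ {B : Subgroup G}, B ≠ ⊤ → IGap G B) : IGap T M := by
  have : Nontrivial G := e.symm.toEquiv.nontrivial
  have : IsSimpleGroup G := IsSimpleGroup.isSimpleGroup_of_surjective e.toMonoidHom e.surjective
  have hB : M.comap e.symm.toMonoidHom ≠ ⊤ := by
    intro h1
    apply hM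
    rw [← Subgroup.index_eq_one] at h1 ⊢
    rwa [index_comap_equiv e.symm M] at h1
  have h1 := h (fun h2 => hna fun a b => e.injective (by rw [map_mul, map_mul]; exact h2 _ _)) hB
  exact h1.congr e.symm

include tb hcyc hcf hna hM

/-- **`F₄(q)`** -/
theorem iGap_f4 (hT : IsNamed (.f4 q) T) : IGap T M := by
  obtain ⟨F, _, _, rfl, ⟨e⟩⟩ := hT.real
  exact iGap_of_model hna hM e fun hn _ hB => iGap_chevF4 tb hcyc hcf hn hB

/-- **`E₆(q)`** -/
theorem iGap_e6 (hT : IsNamed (.e6 q) T) : IGap T M := by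
  obtain ⟨F, _, _, rfl, ⟨e⟩⟩ := hT.real
  exact iGap_of_model hna hM e fun hn _ hB => iGap_chevE6 tb hcyc hcf hn hB

/-- **`E₇(q)`** -/
theorem iGap_e7 (hT : IsNamed (.e7 q) T) : IGap T M := by
  obtain ⟨F, _, _, rfl, ⟨e⟩⟩ := hT.real
  exact iGap_of_model hna hM e fun hn _ hB => iGap_chevE7 tb hcyc hcf hn hB

/-- **`E₈(q)`** -/
theorem iGap_e8 (hT : IsNamed (.e8 q) T) : IGap T M := by
  obtain ⟨F, _, _, rfl, ⟨e⟩⟩ := hT.real
  exact iGap_of_model hna hM e fun hn _ hB => iGap_chevE8 tb hcyc hcf hn hB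

/-- **`²E₆(q)`** -/
theorem iGap_te6 (hT : IsNamed (.te6 q) T) : IGap T M := by
  obtain ⟨F, _, _, hF, ⟨e⟩⟩ := hT.real
  exact iGap_of_model hna hM e fun hn _ hB => iGap_twE6 tb hcyc hcf hT.cond hF hn hB

end named

end Cfsg.Agent.H946.KZ
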