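import Cfsg.Agent.H946.KZ.SameF4
import Cfsg.Agent.H325.Same.ExcPair
import Cfsg.Agent.H325.Same.ExcReg

/-!
# Same characteristic, only the Zsigmondy primes: `E₆`, `²E₆`, `E₇`, `E₈` (helper946)

Copies of helper325's theorems (`H325/Same/ExcReg`, `ExcPair`) whose hypotheses only mention the primes `s` with
`ord_s(p) = f e`.
-/

set_option autoImplicit false

namespace Cfsg.Agent.H946.KZ

open Cfsg.Agent.OrdDiv Cfsg.Agent.H436 Cfsg.Agent.H915.GN Cfsg.Agent.H264.GN Cfsg.Agent.H264.FKS Cfsg.Agent.H325.Same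

variable {p f c : ℕ} {g : Grp}

/-- the common part -/
theorem compEz {XT : ℕ → Prop} {MT aT ρ e f₁ : ℕ} (hp : p.Prime) (hf : 1 ≤ f)
    (hf₁ : 1 ≤ f₁) (hK : KD p f₁ c (Xg g) (Yg g) (Mg g) (ag g)) (hY : Yg g (Mg g))
    (hT : TD p f c XT MT aT) (hMT : 7 ≤ MT) (he : 7 ≤ e) (hs : ZT p f MT c)
    (hs1 : ZT p f e c) (hρ : 2 * aT ≤ ρ * MT) :
    f₁ * Mg g = f * MT ∧ 2 * ag g ≤ ρ * Mg g ∧ ∃ x, Xg g x ∧ e * Mg g ∣ MT * x := by
  have hfM : 1 * MT ≤ f * MT := Nat.mul_le_mul_right _ hf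
  have hfe : 1 * e ≤ f * e := Nat.mul_le_mul_right _ hf
  obtain ⟨h1, h2, h3, h4⟩ := comp hp hf hf₁ hT hK (by omega) (by omega) hs hY (by
    intro hp2 h6 h5
    omega)
  refine ⟨h1, ?_, h3 e (by omega) (by omega) hs1⟩
  have h5 : MT * (2 * ag g) ≤ MT * (ρ * Mg g) := by
    calc MT * (2 * ag g) = 2 * (ag g * MT) := by ring
      _ ≤ 2 * (aT * Mg g) := Nat.mul_le_mul_left _ h2
      _ = 2 * aT * Mg g := by ring
      _ ≤ ρ * MT * Mg g := Nat.mul_le_mul_right _ hρ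
      _ = MT * (ρ * Mg g) := by ring
  exact Nat.le_of_mul_le_mul_left h5 (by omega)

/-- **`T = E_6(q)`, classes 9 and 12.** -/
theorem charp_e6_z (hp : p.Prime) (hf : 1 ≤ f) (hg : Cond g) (hch : HasChar p g)
    (hc : den g * c = num g) (hdvd : c ∣ num (.e6 (p ^ f))) (hs : ZT p f 12 c) (hs1 : ZT p f 9 c) :
    g = .e6 (p ^ f) ∨ g = .psl 4 (p ^ (3 * f)) ∨ ∃ f₁, 2 * f₁ = 3 * f ∧ g = .ominus 4 (p ^ f₁) := by
  obtain ⟨f₁, hf₁, hfl, hK, hY⟩ := kd_all hp hg hch hc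
  obtain ⟨h1, h2, h3⟩ := compEz (ρ := 6) hp hf hf₁ hK hY (td_e6 hp hf hdvd) (by norm_num) (by norm_num)
    hs hs1 (by norm_num)
  have hO := elimR_e6 hg hch h2 h3
  have hp0 : 0 < p := hp.pos
  cases g
  case psl m q =>
    obtain rfl : m = 4 := hO
    obtain rfl : q = p ^ f₁ := hfl
    have h5 : f₁ * 4 = f * 12 := h1
    obtain rfl : f₁ = 3 * f := by omega
    exact Or.inr (Or.inl rfl)
  case psp m q =>
    exfalso
    obtain rfl : m = 4 := hO
    obtain rfl : q = p ^ f₁ := hfl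
    have h5 : f₁ * (2 * 4) = f * 12 := h1
    exact kill_e6 hp hf (Nat.gcd_pos_of_pos_left _ (by norm_num))
      ((Nat.gcd_le_left (p ^ f₁ - 1) (show 0 < 2 by norm_num)).trans (by norm_num)) (pow_pos (pow_pos hp0 _) _)
      (by omega) (hc : Nat.gcd 2 (p ^ f₁ - 1) * c = (p ^ f₁) ^ (4 ^ 2) * prB (p ^ f₁) 4) hdvd
  case oodd m q =>
    exfalso
    obtain rfl : m = 4 := hO
    obtain rfl : q = p ^ f₁ := hfl
    have h5 : f₁ * (2 * 4) = f * 12 := h1
    exact kill_e6 (D := 2) hp hf (by norm_num) (by norm_num) (pow_pos (pow_pos hp0 _) _)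
      (by omega) (hc : 2 * c = (p ^ f₁) ^ (4 ^ 2) * prB (p ^ f₁) 4) hdvd
  case oplus m q =>
    exfalso
    obtain rfl : m = 5 := hO
    obtain rfl : q = p ^ f₁ := hfl
    have h5 : f₁ * (2 * (5 - 1)) = f * 12 := h1
    have hc' : Nat.gcd 4 ((p ^ f₁) ^ 5 - 1) * c = (p ^ f₁) ^ (5 * (5 - 1)) * (((p ^ f₁) ^ 5 - 1) * prB (p ^ f₁) (5 - 1)) :=
      hc
    rw [← mul_assoc] at hc'
    exact kill_e6 hp hf (Nat.gcd_pos_of_pos_left _ (by norm_num))
      (Nat.gcd_le_left ((p ^ f₁) ^ 5 - 1) (show 0 < 4 by norm_num))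
      (Nat.mul_pos (pow_pos (pow_pos hp0 _) _) (sub_pos' (hp.two_le.trans (Nat.le_self_pow (by omega) _)) (by norm_num)))
      (by omega) hc' hdvd
  case ominus m q =>
    obtain rfl : m = 4 := hO
    obtain rfl : q = p ^ f₁ := hfl
    have h5 : f₁ * (2 * 4) = f * 12 := h1
    exact Or.inr (Or.inr ⟨f₁, by omega, rfl⟩)
  case e6 q =>
    obtain rfl : q = p ^ f₁ := hfl
    have h5 : f₁ * 12 = f * 12 := h1
    obtain rfl : f₁ = f := by omega
    exact Or.inl rfl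
  all_goals exact absurd hO not_false

/-- **`T = ²E_6(q)`, classes 12 and 18.** -/
theorem charp_te6_z (hp : p.Prime) (hf : 1 ≤ f) (hg : Cond g) (hch : HasChar p g)
    (hc : den g * c = num g) (hdvd : c ∣ num (.te6 (p ^ f))) (hs : ZT p f 18 c) (hs1 : ZT p f 12 c) :
    g = .te6 (p ^ f) ∨ g = .psu 4 (p ^ (3 * f)) := by
  obtain ⟨f₁, hf₁, hfl, hK, hY⟩ := kd_all hp hg hch hc
  obtain ⟨h1, h2, h3⟩ := compEz (ρ := 4) hp hf hf₁ hK hY (td_te6 hp hf hdvd) (by norm_num) (by norm_num)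
    hs hs1 (by norm_num)
  have hO := elimR_te6 hg hch h2 h3
  have hq : 2 ≤ p ^ f := hp.two_le.trans (Nat.le_self_pow (by omega) _)
  obtain ⟨s, hs0⟩ := exists_prim (q := p ^ f) (e := 9) hq (by norm_num) (by omega)
  have hn : ¬ s ∣ c := fun h => not_dvd_te6 hs0 (h.trans hdvd)
  cases g
  case psl m q =>
    exfalso
    obtain rfl : m = 3 := hO
    obtain rfl : q = p ^ f₁ := hfl
    have h5 : f₁ * 3 = f * 18 := h1
    have h6 := Cfsg.Agent.H425.Chr.prim_quot (f := 6) (by norm_num) hs0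
    rw [← pow_mul, show f * 6 = f₁ by omega] at h6
    exact hn (psl_prim (e := 3) le_rfl le_rfl hc h6)
  case psp m q =>
    exfalso
    obtain rfl : m = 3 := hO
    obtain rfl : q = p ^ f₁ := hfl
    have h5 : f₁ * (2 * 3) = f * 18 := h1
    have h6 := Cfsg.Agent.H425.Chr.prim_quot (f := 3) (by norm_num) hs0
    rw [← pow_mul, show f * 3 = f₁ by omega] at h6
    exact hn (psp_prim (e := 3) 3 (by norm_num) le_rfl (by norm_num) le_rfl hc h6)
  case oodd m q =>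
    exfalso
    obtain rfl : m = 3 := hO
    obtain rfl : q = p ^ f₁ := hfl
    have h5 : f₁ * (2 * 3) = f * 18 := h1
    have h6 := Cfsg.Agent.H425.Chr.prim_quot (f := 3) (by norm_num) hs0
    rw [← pow_mul, show f * 3 = f₁ by omega] at h6
    exact hn (oodd_prim (e := 3) 3 (by norm_num) le_rfl (by norm_num) le_rfl hc h6)
  case psu m q =>
    obtain rfl : m = 4 := hO
    obtain rfl : q = p ^ f₁ := hfl
    have h5 : f₁ * 6 = f * 18 := h1
    obtain rfl : f₁ = 3 * f := by omega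
    exact Or.inr rfl
  case oplus m q =>
    exfalso
    obtain rfl : m = 4 := hO
    obtain rfl : q = p ^ f₁ := hfl
    have h5 : f₁ * (2 * (4 - 1)) = f * 18 := h1
    have h6 := Cfsg.Agent.H425.Chr.prim_quot (f := 3) (by norm_num) hs0
    rw [← pow_mul, show f * 3 = f₁ by omega] at h6
    exact hn (oplus_prim (e := 3) 3 (by norm_num) (by norm_num) (by norm_num) le_rfl hc h6)
  case f4 q =>
    exfalso
    obtain rfl : q = p ^ f₁ := hfl
    have h5 : f₁ * 12 = f * 18 := h1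
    apply hn
    have h7 : 1 * c = (p ^ f₁) ^ 24 * (((p ^ f₁) ^ 2 - 1) * ((p ^ f₁) ^ 6 - 1) * ((p ^ f₁) ^ 8 - 1) *
      ((p ^ f₁) ^ 12 - 1)) := hc
    rw [one_mul] at h7
    rw [h7]
    have h8 : (p ^ f₁) ^ 6 = (p ^ f) ^ 9 := sq_eq (k := 3) (by omega)
    rw [h8]
    exact (hs0.dvd dvd_rfl).trans (((Dvd.intro_left _ rfl).trans ((Dvd.intro _ rfl).trans (Dvd.intro _ rfl))).mul_left _)
  case te6 q =>
    obtain rfl : q = p ^ f₁ := hfl
    have h5 : f₁ * 18 = f * 18 := h1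
    obtain rfl : f₁ = f := by omega
    exact Or.inl rfl
  all_goals exact absurd hO not_false

/-- **`E_8(q)`, classes 20 and 24.** -/
theorem charp_e8_z (hp : p.Prime) (hf : 1 ≤ f) (hg : Cond g) (hch : HasChar p g)
    (hc : den g * c = num g) (hdvd : c ∣ num (.e8 (p ^ f))) (hs1 : ZT p f 20 c) (hs2 : ZT p f 24 c) :
    g = .e8 (p ^ f) := by
  obtain ⟨f₁, hf₁, hfl, hK, hY⟩ := kd_all hp hg hch hc
  obtain ⟨i, hi, hei, hfM, h2, h1, h3, hYc⟩ := compPz hp hf hg hch hf₁ hfl hK hY (td_e8 hp hf hdvd)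
    (by norm_num) (by norm_num) (by norm_num) hs1 hs2
  rcases elimP_e8_20_24 hg hch hi hei h2 h1 h3 hYc with ⟨rfl, q, rfl⟩
  obtain rfl : q = p ^ f₁ := hfl
  rw [same_fld (M := 30) (by norm_num) hfM]

theorem kill_uz {n e f₁ : ℕ} (hp : p.Prime) (hf : 1 ≤ f) (he : e % 2 = 1) (he3 : 2 ≤ e) (hn : n < 2 * e)
    (h1 : f₁ = f) (hc : den (.psu n (p ^ f₁)) * c = num (.psu n (p ^ f₁))) (hs : ZT p f e c)
    (he5 : 5 ≤ e) : False := by
  subst h1
  obtain ⟨s, hs0⟩ := exists_prim (q := p) (e := f₁ * e) hp.two_le (by nlinarith) (by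
    rintro ⟨-, h⟩
    have h8 : e ∣ 6 := ⟨f₁, by rw [← h, mul_comm]⟩
    have h9 := Nat.le_of_dvd (by norm_num) h8
    interval_cases e
    · exact absurd h8 (by norm_num)
    · omega)
  have hs' := prim_pow hf hs0
  have h2 := hs s hs0
  have h3 : s ∣ num (.psu n (p ^ f₁)) := by
    rw [← hc]
    exact h2.mul_left _
  exact not_dvd_u hs' he he3 hn _ h3

/-- **`E_7(q)`, classes 9 and 14.** -/
theorem charp_e7_z (hp : p.Prime) (hf : 1 ≤ f) (hg : Cond g) (hch : HasChar p g)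
    (hc : den g * c = num g) (hdvd : c ∣ num (.e7 (p ^ f))) (hs1 : ZT p f 9 c) (hs2 : ZT p f 14 c) :
    g = .e7 (p ^ f) := by
  obtain ⟨f₁, hf₁, hfl, hK, hY⟩ := kd_all hp hg hch hc
  obtain ⟨i, hi, hei, hfM, h2, h1, h3, hYc⟩ := compPz hp hf hg hch hf₁ hfl hK hY (td_e7 hp hf hdvd)
    (by norm_num) (by norm_num) (by norm_num) hs1 hs2
  rcases elimP_e7_9_14 hg hch hi hei h2 h1 h3 hYc with ⟨rfl, q, rfl⟩ | ⟨rfl, q, rfl⟩ | ⟨rfl, q, rfl⟩
  · exfalso
    obtain rfl : q = p ^ f₁ := hfl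
    exact kill_uz hp hf rfl (by norm_num) (by norm_num) (same_fld (M := 18) (by norm_num) hfM) hc hs1 (by norm_num)
  · exfalso
    obtain rfl : q = p ^ f₁ := hfl
    exact kill_uz hp hf rfl (by norm_num) (by norm_num) (same_fld (M := 18) (by norm_num) hfM) hc hs1 (by norm_num)
  · obtain rfl : q = p ^ f₁ := hfl
    rw [same_fld (M := 18) (by norm_num) hfM]

end Cfsg.Agent.H946.KZ
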