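import Cfsg.Agent.H946.KZ.Core
import Cfsg.Agent.H946.KZ.SameE
import Cfsg.Agent.H563.KG.Named

/-!
# Subgroups of index prime to the Zsigmondy primes of two classes of tori, large fields (helper946)

`KZ_F4`, `KZ_E8`, `KZ_E7`, `KZ_E6`, `KZ_TE6`.
-/

set_option autoImplicit false

namespace Cfsg.Agent.H946.KZ

open Cfsg Cfsg.Agent.OrdDiv Cfsg.Agent.H436 Cfsg.Agent.H902 Cfsg.Agent.H290.ElReg Cfsg.Agent.H290.ElTab
  Cfsg.Agent.H56.Exc Cfsg.Agent.H325.Loc Cfsg.Agent.H915.GN Cfsg.Agent.H264.FKS Cfsg.Agent.H325.Same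
  Cfsg.Agent.H325.IsoExc Cfsg.Agent.H563.KG

/-- large primes divide the order -/
theorem dvd_card_of {T : Type*} [Group T] {g : Grp} (hT : IsNamed g T) {r : ℕ} (hr : r.Prime) (h0 : 0 < den g)
    (h6 : den g < r) (hd : r ∣ num g) : r ∣ Nat.card T := by
  rw [← hT.eq] at hd
  rcases hr.dvd_mul.1 hd with h | h
  · have := Nat.le_of_dvd h0 h
    omega
  · exact h

/-- centralisers of prime order elements of a class have order prime to the primes of another class -/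
theorem not_dvd_of_prim {q c d N t : ℕ} (h : Prim q c t) (hN : N ∣ q ^ d - 1) (hcd : ¬ c ∣ d) : ¬ t ∣ N := fun h1 =>
  hcd ((h.dvd_iff d).1 (h1.trans hN))

variable {p f : ℕ}

section F4

variable {F : Type} [Field F] [Fintype F] [CharP F p]

/-- **`F₄(q)`.** -/
theorem KZ_F4 (tb : OrderTable.{0}) (hcyc : CycFixSolv.{0}) (hcf : CF) (hp : p.Prime) (hf : 9 ≤ f)
    (hq : Fintype.card F = p ^ f) (B : Subgroup ↥(Lie.chevF4.group F)) (hoff : OffZ p f [12, 8] B) : B = ⊤ := by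
  have := Fact.mk hp
  have h2p := hp.two_le
  have hfin : Finite ↥(Lie.chevF4.group F) := inferInstance
  have hT := named_f4 (F := F) tb
  rw [hq] at hT
  have hq2 : 2 ≤ p ^ f := hp.two_le.trans (Nat.le_self_pow (by omega) p)
  have hq1 : 1 ≤ p ^ f := by omega
  have hmem : ∀ c ∈ [12, 8], c = 12 ∨ c = 8 := by decide
  have hcl : ∀ c ∈ [12, 8], Cls c := by
    intro c hc
    have := hmem c hc
    unfold Cls
    omega
  have hbase : ∀ {c r : ℕ}, Prim p (c * f) r → Prim (p ^ f) c r := fun h => prim_base (by omega) h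
  have hdvd : ∀ c ∈ [12, 8], ∀ r, Prim p (c * f) r → r ∣ Nat.card ↥(Lie.chevF4.group F) := by
    intro c hc r hr
    have h1 : ∀ d ∈ [2, 6, 8, 12], (p ^ f) ^ d - 1 ∣ num (.f4 (p ^ f)) := by
      intro d hd
      show _ ∣ (p ^ f) ^ 24 * (((p ^ f) ^ 2 - 1) * ((p ^ f) ^ 6 - 1) * ((p ^ f) ^ 8 - 1) * ((p ^ f) ^ 12 - 1))
      refine Dvd.dvd.mul_left ?_ _
      have h1 := List.dvd_prod (List.mem_map_of_mem (f := fun d => (p ^ f) ^ d - 1) hd)
      simp only [List.map_cons, List.map_nil, List.prod_cons, List.prod_nil, mul_one] at h1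
      simp only [mul_assoc]
      exact h1
    refine dvd_card_of hT hr.prime (den_pos hT.cond) (lt_of_le_of_lt (show 1 ≤ 1 from le_rfl) hr.prime.one_lt)
      (((hbase hr).dvd dvd_rfl).trans (h1 c ?_))
    rcases hmem c hc with rfl | rfl <;> decide
  have hm12 : ((Ph 12 (p ^ f) : ℕ) : ℤ) = 1 - ((p ^ f : ℕ) : ℤ) ^ 2 + ((p ^ f : ℕ) : ℤ) ^ 4 := by
    rw [cast_Ph12 _ hq1]; ring
  have hm8 : ((Ph 8 (p ^ f) : ℕ) : ℤ) = 1 + ((p ^ f : ℕ) : ℤ) ^ 4 := by
    rw [cast_Ph8]; ring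
  have hbig : ∀ c ∈ [12, 8], ∀ r, Prim (p ^ f) c r → Big ↥(Lie.chevF4.group F) r (Ph c (p ^ f)) c := by
    intro c hc r hr
    rcases hmem c hc with rfl | rfl
    · exact big_F4_12 hq hm12 hr
    · exact big_F4_8 hq hm8 hr
  obtain ⟨r₀, hr₀⟩ := exists_zs (c := 12) hp (by omega : 4 ≤ f) (by norm_num)
  have hpiso : PIso p r₀ ↥(Lie.chevF4.group F) := piso_F4 (F := F) (Or.inr rfl) (by rw [hq]; exact hbase hr₀)
  obtain ⟨S, hSn, hSs, hSna, hidx, hbS, g, hg, hch⟩ := core (n := 52) (K := 103) tb hcyc hcf (by norm_num) bnd_52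
    (by norm_num) (fam := [12, 8]) (e := 12) (e' := 8) (by decide) (by decide) (by norm_num) (by decide)
    (fun c hc => by rcases hmem c hc with rfl | rfl <;> omega)
    (fun r hr => by have := lt_of_prim h2p (by omega) hr; exact ⟨by omega, List.not_mem_nil⟩) hp (by omega) (F := F) fth_F4
    (M := fun c => Ph c (p ^ f)) (E := fun c => c) (fun c hc r hr => hbig c hc r (hbase hr))
    (fun c hc => Ph_dvd (hcl c hc) hq1)
    (fun c hc s hs hd => le_seven' hs (n := c) (by have := hmem c hc; omega) hd)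
    (by decide) hdvd (c₀ := 12) (by decide) hr₀ hpiso hoff (fun t ht htp => by
      by_cases h : Prim (p ^ f) 12 t
      · exact ⟨8, by decide, fun w hw x hx hd => not_dvd_of_prim h (Ph_dvd (hcl 8 (by decide)) hq1) (by norm_num)
          (hd.trans ((hbig 8 (by decide) w (hbase hw)).card x hx))⟩
      · exact ⟨12, by decide, fun w hw x hx hd => not_dvd_of_not_prim (hcl 12 (by decide)) hq1 ht h (by
          rw [ncl12_eq]
          exact hd.trans ((hbig 12 (by decide) w (hbase hw)).card x hx))⟩)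
  have hdS : Nat.card S ∣ num (.f4 (p ^ f)) := IsNamed.card_dvd hT S
  rcases charp_f4z hp (by omega) hg.cond hch hg.eq hdS (fun s hs => (hbS 8 (by decide) s (by rwa [mul_comm])).2.2)
    (fun s hs => (hbS 12 (by decide) s (by rwa [mul_comm])).2.2) with rfl | rfl
  · exact eq_top_of_name hT hg
  · exfalso
    obtain ⟨s, hs⟩ := exists_prim (q := p ^ f) (e := 8) hq2 (by norm_num) (by omega)
    exact kill_psl3 hp hg hs (((piso_F4 (F := F) (p := p) (Or.inl rfl) (by rw [hq]; exact hs)).sub B).sub S)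

end F4

section E8

variable {F : Type} [Field F] [Fintype F] [CharP F p]

/-- **`E₈(q)`.** -/
theorem KZ_E8 (tb : OrderTable.{0}) (hcyc : CycFixSolv.{0}) (hcf : CF) (hp : p.Prime) (hf : 32 ≤ f)
    (hq : Fintype.card F = p ^ f) (B : Subgroup ↥(Lie.chevE8.group F)) (hoff : OffZ p f [20, 24] B) : B = ⊤ := by
  have := Fact.mk hp
  have h2p := hp.two_le
  have hfin : Finite ↥(Lie.chevE8.group F) := inferInstance
  have hT := named_e8 (F := F) tb
  rw [hq] at hT
  have hq2 : 2 ≤ p ^ f := hp.two_le.trans (Nat.le_self_pow (by omega) p)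
  have hq1 : 1 ≤ p ^ f := by omega
  have hmem : ∀ c ∈ [20, 24], c = 20 ∨ c = 24 := by decide
  have hcl : ∀ c ∈ [20, 24], Cls c := by
    intro c hc
    have := hmem c hc
    unfold Cls
    omega
  have hbase : ∀ {c r : ℕ}, Prim p (c * f) r → Prim (p ^ f) c r := fun h => prim_base (by omega) h
  have hdvd : ∀ c ∈ [20, 24], ∀ r, Prim p (c * f) r → r ∣ Nat.card ↥(Lie.chevE8.group F) := by
    intro c hc r hr
    have h1 : ∀ d ∈ [2, 8, 12, 14, 18, 20, 24, 30], (p ^ f) ^ d - 1 ∣ num (.e8 (p ^ f)) := by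
      intro d hd
      show _ ∣ (p ^ f) ^ 120 * (((p ^ f) ^ 2 - 1) * ((p ^ f) ^ 8 - 1) * ((p ^ f) ^ 12 - 1) *
        ((p ^ f) ^ 14 - 1) * ((p ^ f) ^ 18 - 1) * ((p ^ f) ^ 20 - 1) * ((p ^ f) ^ 24 - 1) * ((p ^ f) ^ 30 - 1))
      refine Dvd.dvd.mul_left ?_ _
      have h1 := List.dvd_prod (List.mem_map_of_mem (f := fun d => (p ^ f) ^ d - 1) hd)
      simp only [List.map_cons, List.map_nil, List.prod_cons, List.prod_nil, mul_one] at h1
      simp only [mul_assoc]
      exact h1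
    refine dvd_card_of hT hr.prime (den_pos hT.cond) (lt_of_le_of_lt (show 1 ≤ 1 from le_rfl) hr.prime.one_lt)
      (((hbase hr).dvd dvd_rfl).trans (h1 c ?_))
    rcases hmem c hc with rfl | rfl <;> decide
  have hm20 : ((Ph 20 (p ^ f) : ℕ) : ℤ) = 1 - ((p ^ f : ℕ) : ℤ) ^ 2 + ((p ^ f : ℕ) : ℤ) ^ 4 - ((p ^ f : ℕ) : ℤ) ^ 6 +
      ((p ^ f : ℕ) : ℤ) ^ 8 := by
    rw [cast_Ph20 _ hq1]; ring
  have hm24 : ((Ph 24 (p ^ f) : ℕ) : ℤ) = 1 - ((p ^ f : ℕ) : ℤ) ^ 4 + ((p ^ f : ℕ) : ℤ) ^ 8 := by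
    rw [cast_Ph24 _ hq1]; ring
  have hbig : ∀ c ∈ [20, 24], ∀ r, Prim (p ^ f) c r → Big ↥(Lie.chevE8.group F) r (Ph c (p ^ f)) c := by
    intro c hc r hr
    rcases hmem c hc with rfl | rfl
    · exact big_E8_20 hq hm20 hr
    · exact big_E8_24 hq hm24 hr
  obtain ⟨r₀, hr₀⟩ := exists_zs (c := 20) hp (by omega : 4 ≤ f) (by norm_num)
  have hpiso : PIso p r₀ ↥(Lie.chevE8.group F) := piso_E8 (F := F) (Or.inl rfl) (by rw [hq]; exact hbase hr₀)
  obtain ⟨S, hSn, hSs, hSna, hidx, hbS, g, hg, hch⟩ := core (n := 248) (K := 619) tb hcyc hcf (by norm_num) bnd_248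
    (by norm_num) (fam := [20, 24]) (e := 20) (e' := 24) (by decide) (by decide) (by norm_num)
    (by decide) (fun c hc => by rcases hmem c hc with rfl | rfl <;> omega)
    (fun r hr => by have := lt_of_prim h2p (by omega) hr; exact ⟨by omega, List.not_mem_nil⟩) hp (by omega) (F := F) fth_E8
    (M := fun c => Ph c (p ^ f)) (E := fun c => c) (fun c hc r hr => hbig c hc r (hbase hr))
    (fun c hc => Ph_dvd (hcl c hc) hq1)
    (fun c hc s hs hd => le_seven' hs (n := c) (by have := hmem c hc; omega) hd)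
    (by decide) hdvd (c₀ := 20) (by decide) hr₀ hpiso hoff (fun t ht htp => by
      by_cases h : Prim (p ^ f) 24 t
      · exact ⟨20, by decide, fun w hw x hx hd => not_dvd_of_prim h (Ph_dvd (hcl 20 (by decide)) hq1) (by norm_num)
          (hd.trans ((hbig 20 (by decide) w (hbase hw)).card x hx))⟩
      · exact ⟨24, by decide, fun w hw x hx hd => not_dvd_of_not_prim (hcl 24 (by decide)) hq1 ht h (by
          rw [ncl24_eq]
          exact hd.trans ((hbig 24 (by decide) w (hbase hw)).card x hx))⟩)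
  have hdS : Nat.card S ∣ num (.e8 (p ^ f)) := IsNamed.card_dvd hT S
  obtain rfl := charp_e8_z hp (by omega) hg.cond hch hg.eq hdS
    (fun s hs => (hbS 20 (by decide) s (by rwa [mul_comm])).2.2)
    (fun s hs => (hbS 24 (by decide) s (by rwa [mul_comm])).2.2)
  exact eq_top_of_name hT hg

end E8

section E7

variable {F : Type} [Field F] [Fintype F] [CharP F p]

/-- **`E₇(q)`.** -/
theorem KZ_E7 (tb : OrderTable.{0}) (hcyc : CycFixSolv.{0}) (hcf : CF) (hp : p.Prime) (hf : 19 ≤ f)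
    (hq : Fintype.card F = p ^ f) (B : Subgroup ↥(Lie.chevE7.group F)) (hoff : OffZ p f [9, 14] B) : B = ⊤ := by
  have := Fact.mk hp
  have h2p := hp.two_le
  have hfin : Finite ↥(Lie.chevE7.group F) := inferInstance
  have hT := named_e7 (F := F) tb
  rw [hq] at hT
  have hq2 : 2 ≤ p ^ f := hp.two_le.trans (Nat.le_self_pow (by omega) p)
  have hq1 : 1 ≤ p ^ f := by omega
  have hmem : ∀ c ∈ [9, 14], c = 9 ∨ c = 14 := by decide
  have hmem' : ∀ c ∈ [9, 14], c = 7 ∨ c = 9 ∨ c = 14 ∨ c = 18 := by decide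
  have hcl : ∀ c ∈ [9, 14], Cls c := by
    intro c hc
    have := hmem c hc
    unfold Cls
    omega
  have hbase : ∀ {c r : ℕ}, Prim p (c * f) r → Prim (p ^ f) c r := fun h => prim_base (by omega) h
  have hdvd : ∀ c ∈ [9, 14], ∀ r, Prim p (c * f) r → r ∣ Nat.card ↥(Lie.chevE7.group F) := by
    intro c hc r hr
    refine dvd_card_of hT hr.prime (den_pos hT.cond) (lt_of_le_of_lt (Nat.gcd_le_left _ (by norm_num)) ?_)
      ((dvd_Ph (hcl c hc) hq1 (hbase hr)).trans (ph_dvd_num (hmem' c hc) hq1))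
    rcases hmem c hc with rfl | rfl
    · have h8 := lt_of_prim h2p (by omega) hr
      omega
    · have h8 := lt_of_prim h2p (by omega) hr
      omega
  obtain ⟨r₀, hr₀⟩ := exists_zs (c := 14) hp (by omega : 4 ≤ f) (by norm_num)
  have hpiso : PIso p r₀ ↥(Lie.chevE7.group F) := piso_E7 (F := F) (by rw [hq]; exact hbase hr₀)
  have hdiv : ∀ {a P d : ℕ}, 0 < a * P → d ∣ a → a * P / d ∣ a * P := fun _ hd =>
    Nat.div_dvd_of_dvd (hd.mul_right _)
  have hd1 : Nat.gcd 2 (p ^ f - 1) ∣ p ^ f - 1 := Nat.gcd_dvd_right _ _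
  have hd2 : Nat.gcd 2 (p ^ f - 1) ∣ p ^ f + 1 := by
    have h3 : p ^ f + 1 = (p ^ f - 1) + 2 := by omega
    rw [h3]
    exact dvd_add hd1 (Nat.gcd_dvd_left _ _)
  have hN9 : (p ^ f - 1) * Ph 9 (p ^ f) / Nat.gcd 2 (p ^ f - 1) ∣ (p ^ f) ^ 9 - 1 :=
    (Nat.div_dvd_of_dvd (hd1.mul_right _)).trans (m7_dvd (c := 9) (by norm_num) hq1)
  have hN14 : (p ^ f + 1) * Ph 14 (p ^ f) / Nat.gcd 2 (p ^ f - 1) ∣ (p ^ f) ^ 14 - 1 :=
    (Nat.div_dvd_of_dvd (hd2.mul_right _)).trans (m7_dvd (c := 14) (by norm_num) hq1)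
  obtain ⟨S, hSn, hSs, hSna, hidx, hbS, g, hg, hch⟩ := core (n := 133) (K := 265) tb hcyc hcf (by norm_num) bnd_133
    (by norm_num) (fam := [9, 14]) (e := 14) (e' := 9) (by decide) (by decide) (by norm_num)
    (by decide) (fun c hc => by rcases hmem c hc with rfl | rfl <;> omega)
    (fun r hr => by
      have := lt_of_prim h2p (by omega) hr
      have h7 : 14 ∣ r - 1 := (Dvd.intro _ rfl).trans (mod_of_prim h2p (by omega) hr)
      refine ⟨by omega, fun hm => ?_⟩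
      simp only [List.mem_cons, List.not_mem_nil, or_false] at hm
      omega) hp (by omega) (F := F) fth_E7
    (M := M7 (p ^ f)) (E := E7) (fun c hc r hr => big7 (hmem' c hc) hq (hbase hr))
    (fun c hc => m7_dvd (hmem' c hc) hq1)
    (fun c hc s hs hd => le_seven hs (n := E7 c) (by unfold E7; split <;> omega) hd)
    (by decide) hdvd (c₀ := 14) (by decide) hr₀ hpiso hoff (fun t ht htp => by
      by_cases h9 : Prim (p ^ f) 9 t
      · exact ⟨14, by decide, fun w hw x hx hd => not_dvd_of_prim h9 hN14 (by norm_num)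
          (hd.trans (ord14 hq w (hbase hw) x hx))⟩
      by_cases h14 : Prim (p ^ f) 14 t
      · exact ⟨9, by decide, fun w hw x hx hd => not_dvd_of_prim h14 hN9 (by norm_num)
          (hd.trans (ord9 hq w (hbase hw) x hx))⟩
      by_cases h : t ∣ (p ^ f - 1) * Ph 9 (p ^ f) / Nat.gcd 2 (p ^ f - 1)
      · refine ⟨14, by decide, fun w hw x hx hd => ?_⟩
        exact no_both hq1 ht (by
            rintro rfl
            rw [← Nat.not_even_iff_odd, Nat.even_pow]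
            rintro ⟨h1, -⟩
            exact htp ((Nat.prime_dvd_prime_iff_eq Nat.prime_two hp).1 h1.two_dvd))
          (fun ho => ph_odd hq1 ho (by omega)) (fun ho => ph_odd hq1 ho (by omega))
          (sub_of_nine hq1 ht h9) (add_of_fourteen hq1 ht h14) h (hd.trans (ord14 hq w (hbase hw) x hx))
      · exact ⟨9, by decide, fun w hw x hx hd => h (hd.trans (ord9 hq w (hbase hw) x hx))⟩)
  have hdS : Nat.card S ∣ num (.e7 (p ^ f)) := IsNamed.card_dvd hT S
  obtain rfl := charp_e7_z hp (by omega) hg.cond hch hg.eq hdS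
    (fun s hs => (hbS 9 (by decide) s (by rwa [mul_comm])).2.2)
    (fun s hs => (hbS 14 (by decide) s (by rwa [mul_comm])).2.2)
  exact eq_top_of_name hT hg

end E7

section E6

/-- one of the two classes is large -/
theorem large_E6 (hp : p.Prime) (hf : 13 ≤ f) : ∃ e e' : ℕ, e ∈ [9, 12] ∧ e' ∈ [9, 12] ∧ e ≠ e' ∧
    ∀ r, Prim p (e * f) r → 157 < r ∧ r ∉ [257] := by
  have h2p := hp.two_le
  rcases eq_or_lt_of_le hf with rfl | hf
  · refine ⟨9, 12, by decide, by decide, by norm_num, fun r hr => ?_⟩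
    have h1 := mod_of_prim h2p (by norm_num) hr
    have h2 := lt_of_prim h2p (by norm_num) hr
    have h3 : r ≠ 118 := by
      rintro rfl
      exact absurd hr.prime (by norm_num)
    refine ⟨by omega, fun hm => ?_⟩
    rw [List.mem_singleton] at hm
    omega
  · refine ⟨12, 9, by decide, by decide, by norm_num, fun r hr => ?_⟩
    have h1 : 12 ∣ r - 1 := (Dvd.intro _ rfl).trans (mod_of_prim h2p (by omega) hr)
    have h2 := lt_of_prim h2p (by omega) hr
    refine ⟨by omega, fun hm => ?_⟩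
    rw [List.mem_singleton] at hm
    omega

variable {F : Type} [Field F] [Fintype F] [CharP F p]

/-- **`E₆(q)`.** -/
theorem KZ_E6 (tb : OrderTable.{0}) (hcyc : CycFixSolv.{0}) (hcf : CF) (hp : p.Prime) (hf : 13 ≤ f)
    (hq : Fintype.card F = p ^ f) (B : Subgroup ↥(Lie.chevE6.group F)) (hoff : OffZ p f [9, 12] B) : B = ⊤ := by
  have := Fact.mk hp
  have h2p := hp.two_le
  have hfin : Finite ↥(Lie.chevE6.group F) := inferInstance
  have hT := named_e6 (F := F) tb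
  rw [hq] at hT
  have hq2 : 2 ≤ p ^ f := hp.two_le.trans (Nat.le_self_pow (by omega) p)
  have hq1 : 1 ≤ p ^ f := by omega
  have hmem : ∀ c ∈ [9, 12], c = 9 ∨ c = 12 := by decide
  have hcl : ∀ c ∈ [9, 12], Cls c := by
    intro c hc
    have := hmem c hc
    unfold Cls
    omega
  have hbase : ∀ {c r : ℕ}, Prim p (c * f) r → Prim (p ^ f) c r := fun h => prim_base (by omega) h
  have hdvd : ∀ c ∈ [9, 12], ∀ r, Prim p (c * f) r → r ∣ Nat.card ↥(Lie.chevE6.group F) := by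
    intro c hc r hr
    have h1 : (p ^ f) ^ c - 1 ∣ num (.e6 (p ^ f)) := by
      show _ ∣ (p ^ f) ^ 36 * (((p ^ f) ^ 2 - 1) * ((p ^ f) ^ 5 - 1) * ((p ^ f) ^ 6 - 1) *
        ((p ^ f) ^ 8 - 1) * ((p ^ f) ^ 9 - 1) * ((p ^ f) ^ 12 - 1))
      refine Dvd.dvd.mul_left ?_ _
      rcases hmem c hc with rfl | rfl
      · exact (Dvd.intro_left _ rfl).trans (Dvd.intro _ rfl)
      · exact Dvd.intro_left _ rfl
    refine dvd_card_of hT hr.prime (den_pos hT.cond) (lt_of_le_of_lt (Nat.gcd_le_left _ (by norm_num)) ?_)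
      (((hbase hr).dvd dvd_rfl).trans h1)
    rcases hmem c hc with rfl | rfl
    · have h8 := lt_of_prim h2p (by omega) hr
      omega
    · have h8 := lt_of_prim h2p (by omega) hr
      omega
  have hm9 : ((Ph 9 (p ^ f) : ℕ) : ℤ) = 1 + ((p ^ f : ℕ) : ℤ) ^ 3 + ((p ^ f : ℕ) : ℤ) ^ 6 := by
    rw [cast_Ph9]; ring
  have hm12 : ((Ph 12 (p ^ f) * ((p ^ f) ^ 2 + p ^ f + 1) : ℕ) : ℤ) =
      (1 - ((p ^ f : ℕ) : ℤ) ^ 2 + ((p ^ f : ℕ) : ℤ) ^ 4) * (1 + ((p ^ f : ℕ) : ℤ) + ((p ^ f : ℕ) : ℤ) ^ 2) := by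
    rw [Nat.cast_mul, cast_Ph12 _ hq1]; push_cast; ring
  have hbig : ∀ c ∈ [9, 12], ∀ r, Prim (p ^ f) c r → Big ↥(Lie.chevE6.group F) r (ME (p ^ f) c) c := by
    intro c hc r hr
    rcases hmem c hc with rfl | rfl
    · exact big_E6_9 hq hm9 hr
    · exact big_E6_12 hq hm12 hr
  have hM : ∀ c ∈ [9, 12], ME (p ^ f) c ∣ (p ^ f) ^ c - 1 := by
    intro c hc
    rcases hmem c hc with rfl | rfl
    · exact Ph_dvd c9 hq1
    · refine dvd_of_cast (c := (((p ^ f : ℕ) : ℤ) ^ 2 + 1) * (((p ^ f : ℕ) : ℤ) ^ 2 - 1) * (((p ^ f : ℕ) : ℤ) ^ 2 - (p ^ f : ℕ) + 1)) ?_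
      have h1 : ME (p ^ f) 12 = Ph 12 (p ^ f) * ((p ^ f) ^ 2 + p ^ f + 1) := rfl
      rw [h1, cast_sub_one hq1, hm12]
      ring
  obtain ⟨r₀, hr₀⟩ := exists_zs (c := 9) hp (by omega : 4 ≤ f) (by norm_num)
  have hpiso : PIso p r₀ ↥(Lie.chevE6.group F) := piso_E6 (F := F) (by rw [hq]; exact hbase hr₀)
  have ho9 : Ord ↥(Lie.chevE6.group F) (p ^ f) 9 (ncl 9 (p ^ f)) := by
    intro r hr x hx
    rw [← ncl9_eq hq1]
    exact (Cfsg.Agent.H190.Exc.e6_9 hq hr).2 x hx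
  obtain ⟨e, e', he, he', hne, hlarge⟩ := large_E6 hp hf
  obtain ⟨S, hSn, hSs, hSna, hidx, hbS, g, hg, hch⟩ := core (n := 78) (K := 157) tb hcyc hcf (by norm_num) bnd_78
    (by norm_num) (fam := [9, 12]) (e := e) (e' := e') he he' hne (by decide)
    (fun c hc => by rcases hmem c hc with rfl | rfl <;> omega) hlarge hp (by omega) (F := F) fth_E6
    (M := ME (p ^ f)) (E := fun c => c) (fun c hc r hr => hbig c hc r (hbase hr)) hM
    (fun c hc s hs hd => le_seven hs (n := c) (by have := hmem c hc; omega) hd)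
    (by decide) hdvd (c₀ := 9) (by decide) hr₀ hpiso hoff (fun t ht htp => by
      by_cases h : Prim (p ^ f) 9 t
      · exact ⟨12, by decide, fun w hw x hx hd => not_dvd_of_prim h (hM 12 (by decide)) (by norm_num)
          (hd.trans ((hbig 12 (by decide) w (hbase hw)).card x hx))⟩
      · exact ⟨9, by decide, fun w hw x hx hd => not_dvd_of_not_prim c9 hq1 ht h (hd.trans (ho9 w (hbase hw) x hx))⟩)
  have hdS : Nat.card S ∣ num (.e6 (p ^ f)) := IsNamed.card_dvd hT S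
  rcases charp_e6_z hp (by omega) hg.cond hch hg.eq hdS (fun s hs => (hbS 12 (by decide) s (by rwa [mul_comm])).2.2)
    (fun s hs => (hbS 9 (by decide) s (by rwa [mul_comm])).2.2) with rfl | rfl | ⟨f₁, hf₁, rfl⟩
  · exact eq_top_of_name hT hg
  · exfalso
    exact kill_psl4 hp (by omega) hg (hbase hr₀) fun x hx => (hbS 9 (by decide) r₀ hr₀).1.card x hx
  · exfalso
    exact kill_ominus4 hp (by omega) hf₁ hg hr₀ (hbS 9 (by decide) r₀ hr₀).2.2 ((hpiso.sub B).sub S)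

/-- **`²E₆(q)`.** -/
theorem KZ_TE6 {F : Type} [Field F] [Fintype F] (tb : OrderTable.{0}) (hcyc : CycFixSolv.{0}) (hcf : CF) [CharP F p]
    (hp : p.Prime) (hf : 13 ≤ f) (hK : Fintype.card F = (p ^ f) ^ 2) (B : Subgroup ↥(Lie.twistedE6 F (p ^ f)))
    (hoff : OffZ p f [18, 12] B) : B = ⊤ := by
  have := Fact.mk hp
  have h2p := hp.two_le
  have hq : IsPrimePow (p ^ f) := hp.isPrimePow.pow (by omega)
  have hfin : Finite ↥(Lie.twistedE6 F (p ^ f)) := inferInstance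
  have hT := named_te6 (F := F) tb hq hK
  have hq2 : 2 ≤ p ^ f := hp.two_le.trans (Nat.le_self_pow (by omega) p)
  have hq1 : 1 ≤ p ^ f := by omega
  have hmem : ∀ c ∈ [18, 12], c = 18 ∨ c = 12 := by decide
  have hcl : ∀ c ∈ [18, 12], Cls c := by
    intro c hc
    have := hmem c hc
    unfold Cls
    omega
  have hbase : ∀ {c r : ℕ}, Prim p (c * f) r → Prim (p ^ f) c r := fun h => prim_base (by omega) h
  have hdvd : ∀ c ∈ [18, 12], ∀ r, Prim p (c * f) r → r ∣ Nat.card ↥(Lie.twistedE6 F (p ^ f)) := by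
    intro c hc r hr
    have h1 : r ∣ num (.te6 (p ^ f)) := by
      show _ ∣ (p ^ f) ^ 36 * (((p ^ f) ^ 2 - 1) * ((p ^ f) ^ 5 + 1) * ((p ^ f) ^ 6 - 1) *
        ((p ^ f) ^ 8 - 1) * ((p ^ f) ^ 9 + 1) * ((p ^ f) ^ 12 - 1))
      refine Dvd.dvd.mul_left ?_ _
      rcases hmem c hc with rfl | rfl
      · exact ((dvd_Ph c18 hq1 (hbase hr)).trans (Ph18_dvd hq1)).trans
          ((Dvd.intro_left _ rfl).trans (Dvd.intro _ rfl))
      · exact ((hbase hr).dvd dvd_rfl).trans (Dvd.intro_left _ rfl)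
    refine dvd_card_of hT hr.prime (den_pos hT.cond) (lt_of_le_of_lt (Nat.gcd_le_left _ (by norm_num)) ?_) h1
    rcases hmem c hc with rfl | rfl
    · have h8 := lt_of_prim h2p (by omega) hr
      omega
    · have h8 := lt_of_prim h2p (by omega) hr
      omega
  have hm18 : ((Ph 18 (p ^ f) : ℕ) : ℤ) = 1 - ((p ^ f : ℕ) : ℤ) ^ 3 + ((p ^ f : ℕ) : ℤ) ^ 6 := by
    rw [cast_Ph18 _ hq1]; ring
  have hle : p ^ f ≤ (p ^ f) ^ 2 := Nat.le_self_pow (by norm_num) _
  have hm12 : ((Ph 12 (p ^ f) * ((p ^ f) ^ 2 - p ^ f + 1) : ℕ) : ℤ) =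
      (1 - ((p ^ f : ℕ) : ℤ) ^ 2 + ((p ^ f : ℕ) : ℤ) ^ 4) * (1 - ((p ^ f : ℕ) : ℤ) + ((p ^ f : ℕ) : ℤ) ^ 2) := by
    rw [Nat.cast_mul, cast_Ph12 _ hq1, Nat.cast_add, Nat.cast_sub hle]; push_cast; ring
  have hbig : ∀ c ∈ [18, 12], ∀ r, Prim (p ^ f) c r → Big ↥(Lie.twistedE6 F (p ^ f)) r (MT (p ^ f) c) (ET c) := by
    intro c hc r hr
    rcases hmem c hc with rfl | rfl
    · exact big_TE6_18 hq hK hm18 hr
    · exact big_TE6_12 hq hK hm12 hr
  have hM : ∀ c ∈ [18, 12], MT (p ^ f) c ∣ (p ^ f) ^ c - 1 := by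
    intro c hc
    rcases hmem c hc with rfl | rfl
    · exact Ph_dvd c18 hq1
    · refine dvd_of_cast (c := (((p ^ f : ℕ) : ℤ) ^ 2 + 1) * (((p ^ f : ℕ) : ℤ) ^ 2 - 1) * (((p ^ f : ℕ) : ℤ) ^ 2 + (p ^ f : ℕ) + 1)) ?_
      have h1 : MT (p ^ f) 12 = Ph 12 (p ^ f) * ((p ^ f) ^ 2 - p ^ f + 1) := rfl
      rw [h1, cast_sub_one hq1, hm12]
      ring
  obtain ⟨r₀, hr₀⟩ := exists_zs (c := 18) hp (by omega : 4 ≤ f) (by norm_num)
  have hpiso : PIso p r₀ ↥(Lie.twistedE6 F (p ^ f)) := piso_twE6 hq hK (Or.inr rfl) (hbase hr₀)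
  have ho18 : Ord ↥(Lie.twistedE6 F (p ^ f)) (p ^ f) 18 (ncl 18 (p ^ f)) := by
    intro r hr x hx
    rw [← ncl18_eq hq1]
    exact (Cfsg.Agent.H190.Exc.te6_18 hq hK hr).2 x hx
  obtain ⟨S, hSn, hSs, hSna, hidx, hbS, g, hg, hch⟩ := core (n := 78) (K := 157) tb hcyc hcf (by norm_num) bnd_78
    (by norm_num) (fam := [18, 12]) (e := 18) (e' := 12) (by decide) (by decide) (by norm_num) (by decide)
    (fun c hc => by rcases hmem c hc with rfl | rfl <;> omega)
    (fun r hr => by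
      have := lt_of_prim h2p (by omega) hr
      have h7 : 18 ∣ r - 1 := (Dvd.intro _ rfl).trans (mod_of_prim h2p (by omega) hr)
      refine ⟨by omega, fun hm => ?_⟩
      rw [List.mem_singleton] at hm
      omega) hp (by omega) (F := F) (fth_TE6 _)
    (M := MT (p ^ f)) (E := ET) (fun c hc r hr => hbig c hc r (hbase hr)) hM
    (fun c hc s hs hd => le_seven hs (n := ET c) (by unfold ET; split <;> omega) hd)
    (by decide) hdvd (c₀ := 18) (by decide) hr₀ hpiso hoff (fun t ht htp => by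
      by_cases h : Prim (p ^ f) 18 t
      · exact ⟨12, by decide, fun w hw x hx hd => not_dvd_of_prim h (hM 12 (by decide)) (by norm_num)
          (hd.trans ((hbig 12 (by decide) w (hbase hw)).card x hx))⟩
      · exact ⟨18, by decide, fun w hw x hx hd =>
          not_dvd_of_not_prim c18 hq1 ht h (hd.trans (ho18 w (hbase hw) x hx))⟩)
  have hdS : Nat.card S ∣ num (.te6 (p ^ f)) := IsNamed.card_dvd hT S
  rcases charp_te6_z hp (by omega) hg.cond hch hg.eq hdS (fun s hs => (hbS 18 (by decide) s (by rwa [mul_comm])).2.2)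
    (fun s hs => (hbS 12 (by decide) s (by rwa [mul_comm])).2.2) with rfl | rfl
  · exact eq_top_of_name hT hg
  · exfalso
    exact kill_psu4 hp (by omega) hg (hbase hr₀) fun x hx => (hbS 18 (by decide) r₀ hr₀).1.card x hx

end E6

end Cfsg.Agent.H946.KZ
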