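import Cfsg.Agent.H946.KZ.Name
import Cfsg.Agent.H563.KG.RedW
import Cfsg.Agent.H56.Exc.Full

/-!
# Subgroups of index prime to the Zsigmondy primes of two classes of tori: the simple normal subgroup (helper946)

Following helper563's `KG/Core`, for a large field exponent `f`, only with the primes `r` with `ord_r(p) = c f`.
-/

set_option autoImplicit false

namespace Cfsg.Agent.H946.KZ

open Cfsg Cfsg.Agent.OrdDiv Cfsg.Agent.H436 Cfsg.Agent.H902 Cfsg.Agent.H902.Names Cfsg.Agent.H915.GN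
  Cfsg.Agent.H290.ElReg Cfsg.Agent.H264.FKS Cfsg.Agent.H56.Exc Cfsg.Agent.H325.Loc Cfsg.Agent.H563.KG

/-- no Zsigmondy prime of `p ^ (c f) - 1` divides the index -/
def OffZ {T : Type*} [Group T] (p f : ℕ) (cls : List ℕ) (B : Subgroup T) : Prop :=
  ∀ c ∈ cls, ∀ r, Prim p (c * f) r → ¬ r ∣ B.index

theorem prim_base {p f c r : ℕ} (hf : 1 ≤ f) (h : Prim p (c * f) r) : Prim (p ^ f) c r := by
  refine ⟨h.prime, fun m => ?_, fun hd => h.not_dvd (h.prime.dvd_of_dvd_pow hd)⟩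
  rw [← pow_mul, h.dvd_iff, mul_comm f m]
  exact Nat.mul_dvd_mul_iff_right (by omega)

/-- the family of the Zsigmondy primes -/
def Fz (p f : ℕ) (fam : List ℕ) (M E : ℕ → ℕ) (r m e : ℕ) : Prop := ∃ c ∈ fam, Prim p (c * f) r ∧ m = M c ∧ e = E c

theorem pr_fz {p f : ℕ} {fam : List ℕ} {M E : ℕ → ℕ} {r : ℕ} :
    Pr (Fz p f fam M E) r ↔ ∃ c ∈ fam, Prim p (c * f) r := by
  constructor
  · rintro ⟨m, e, c, hc, h, -, -⟩
    exact ⟨c, hc, h⟩
  · rintro ⟨c, hc, h⟩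
    exact ⟨M c, E c, c, hc, h, rfl, rfl⟩

theorem exists_zs {p f c : ℕ} (hp : p.Prime) (hf : 4 ≤ f) (hc : 2 ≤ c) : ∃ r, Prim p (c * f) r := by
  have h1 : 8 ≤ c * f := by nlinarith
  exact exists_prim hp.two_le (by omega) (by omega)

theorem OffZ.dvd {T : Type*} [Group T] {p f : ℕ} {cls : List ℕ} {B : Subgroup T} (h : OffZ p f cls B) {c r : ℕ}
    (hc : c ∈ cls) (hr : Prim p (c * f) r) (hT : r ∣ Nat.card T) : r ∣ Nat.card B := by
  rw [← B.index_mul_card] at hT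
  exact (hr.prime.dvd_mul.1 hT).resolve_left (h c hc r hr)

variable {n K : ℕ} {fam : List ℕ} {p f : ℕ} {M E : ℕ → ℕ}

/-- the family of big primes of a subgroup -/
theorem rfam_of {T : Type*} [Group T] [Finite T] (hp : p.Prime) (hf : 4 ≤ f) (h2 : ∀ c ∈ fam, 2 ≤ c)
    (hbig : ∀ c ∈ fam, ∀ r, Prim p (c * f) r → Big T r (M c) (E c)) (hM : ∀ c ∈ fam, M c ∣ (p ^ f) ^ c - 1)
    (hE : ∀ c ∈ fam, ∀ s, s.Prime → s ∣ E c → s ≤ 7) (hsep : ∀ c ∈ fam, ∃ c' ∈ fam, ¬ c' ∣ c)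
    (hT : ∀ c ∈ fam, ∀ r, Prim p (c * f) r → r ∣ Nat.card T) {B : Subgroup T} (hoff : OffZ p f fam B) :
    RFam ↥B (Fz p f fam M E) where
  big := by
    rintro r m e ⟨c, hc, h, rfl, rfl⟩
    exact (hbig c hc r h).subgroup B
  dvd := by
    rintro r m e ⟨c, hc, h, rfl, rfl⟩
    exact hoff.dvd hc h (hT c hc r h)
  sep := by
    rintro r m e ⟨c, hc, h, rfl, rfl⟩ hcon
    obtain ⟨c', hc', hcc⟩ := hsep c hc
    obtain ⟨s, hs⟩ := exists_zs hp hf (h2 c' hc')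
    have h8 : 8 ≤ c' * f := by have := h2 c' hc'; nlinarith
    have h1 : s ∣ Nat.card B := hoff.dvd hc' hs (hT c' hc' s hs)
    rcases hs.prime.dvd_mul.1 (h1.trans hcon) with h2 | h2
    · have h3 := hE c hc s hs.prime h2
      have h4 := lt_of_prim hp.two_le (by omega) hs
      omega
    · have h5 := h2.trans (hM c hc)
      rw [← pow_mul, hs.dvd_iff, mul_comm f c] at h5
      exact hcc (Nat.dvd_of_mul_dvd_mul_right (by omega : 0 < f) h5)

/-- **The simple normal subgroup.** -/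
theorem core (tb : OrderTable.{0}) (hcyc : CycFixSolv.{0})
    (hcfsg : ∀ (S : Type) [Group S] [Finite S] [IsSimpleGroup S], IsKnownSimple' S) (hn : n ≤ 248)
    {L : List ℕ} (hb : bnd n K L = true) (hK : 71 ≤ K) {e e' : ℕ} (hee : e ∈ fam) (hee' : e' ∈ fam) (hne : e ≠ e')
    (h2 : ∀ c ∈ fam, 2 ≤ c) (hKf : ∀ c ∈ fam, n < c * f) (hKe : ∀ r, Prim p (e * f) r → K < r ∧ r ∉ L)
    (hp : p.Prime) (hf : 4 ≤ f) {F : Type} [Field F] [CharP F p]
    {T : Type} [Group T] [Finite T] (hrep : Fth n F T)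
    (hbig : ∀ c ∈ fam, ∀ r, Prim p (c * f) r → Big T r (M c) (E c)) (hM : ∀ c ∈ fam, M c ∣ (p ^ f) ^ c - 1)
    (hE : ∀ c ∈ fam, ∀ s, s.Prime → s ∣ E c → s ≤ 7) (hsep : ∀ c ∈ fam, ∃ c' ∈ fam, ¬ c' ∣ c)
    (hT : ∀ c ∈ fam, ∀ r, Prim p (c * f) r → r ∣ Nat.card T)
    {c₀ r₀ : ℕ} (hc₀ : c₀ ∈ fam) (hr₀ : Prim p (c₀ * f) r₀) (hpiso : PIso p r₀ T)
    {B : Subgroup T} (hoff : OffZ p f fam B)
    (hgood : ∀ t : ℕ, t.Prime → t ≠ p → ∃ c ∈ fam, ∀ w, Prim p (c * f) w → ∀ x : T, orderOf x = w →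
      ¬ t ∣ Nat.card ↥(Subgroup.centralizer ({x} : Set T))) :
    ∃ (S : Subgroup B) (_ : S.Normal) (_ : IsSimpleGroup S), ¬ IsMulCommutative S ∧
      (∀ c ∈ fam, S.index ∣ E c * M c) ∧
      (∀ c ∈ fam, ∀ r, Prim p (c * f) r → Big S r (M c) (E c) ∧ ¬ r ∣ S.index ∧ r ∣ Nat.card S) ∧
      ∃ g, IsNamed g S ∧ HasChar p g := by
  have := Fact.mk hp
  have h2p := hp.two_le
  have hrf := rfam_of hp hf h2 hbig hM hE hsep hT hoff
  obtain ⟨τ, hτ⟩ := hrep.sub B.subtype B.subtype_injective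
  have hr₀B : r₀ ∣ Nat.card B := hoff.dvd hc₀ hr₀ (hT c₀ hc₀ r₀ hr₀)
  have hred : Red ↥B (Pr (Fz p f fam M E)) := by
    refine red_of hcyc hτ (fun A hA hAp => pcore_of_piso (hpiso.sub B) hr₀B A hA hAp)
      (pr_fz.2 ⟨c₀, hc₀, hr₀⟩) hr₀.prime hr₀B
      (fun x hx => ((hbig c₀ hc₀ r₀ hr₀).subgroup B).cyc x hx) fun t ht htp htn htB => ?_
    rw [Fintype.card_fin]
    obtain ⟨c, hc, hct⟩ := hgood t ht htp
    obtain ⟨w, hw⟩ := exists_zs hp hf (h2 c hc)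
    have h8 : 8 ≤ c * f := by have := h2 c hc; nlinarith
    have hwlt := lt_of_prim h2p (by omega) hw
    refine ⟨w, hoff.dvd hc hw (hT c hc w hw), ?_, Or.inl (by have := hKf c hc; omega)⟩
    intro x hx hxw a hat hxa
    have hxw' : orderOf (x : T) = w := by
      rw [Subgroup.orderOf_coe]
      exact (Nat.prime_dvd_prime_iff_eq hx hw.prime).1 hxw
    by_contra ha1
    have := Fact.mk ht
    have h4 : orderOf (a : T) = t := by
      rw [Subgroup.orderOf_coe]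
      exact orderOf_eq_prime hat ha1
    have h5 : (a : T) ∈ Subgroup.centralizer ({(x : T)} : Set T) :=
      Subgroup.mem_centralizer_singleton_iff.2 (congrArg Subtype.val hxa.symm)
    have h6 : orderOf (a : T) ∣ Nat.card ↥(Subgroup.centralizer ({(x : T)} : Set T)) := by
      have h7 := orderOf_dvd_natCard (⟨a, h5⟩ : ↥(Subgroup.centralizer ({(x : T)} : Set T)))
      rwa [← Subgroup.orderOf_coe] at h7
    rw [h4] at h6
    exact hct w hw x hxw' h6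
  obtain ⟨S, hSn, hSs, hSna, hS⟩ :=
    hrf.exists_full hcyc hred (r₁ := r₀) (m₁ := M c₀) (e₁ := E c₀) ⟨c₀, hc₀, hr₀, rfl, rfl⟩
  have hall : ∀ c ∈ fam, ∀ r, Prim p (c * f) r →
      Big S r (M c) (E c) ∧ r ∣ Nat.card S ∧ ¬ r ∣ S.index ∧ S.index ∣ E c * M c :=
    fun c hc r h => hS r (M c) (E c) ⟨c, hc, h, rfl, rfl⟩
  have hSs' : IsSimpleGroup S := hSs
  refine ⟨S, hSn, hSs, hSna, fun c hc => ?_, fun c hc r h => ⟨(hall c hc r h).1, (hall c hc r h).2.2.1,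
    (hall c hc r h).2.1⟩, ?_⟩
  · obtain ⟨r, hr⟩ := exists_zs hp hf (h2 c hc)
    exact (hall c hc r hr).2.2.2
  · obtain ⟨r, hr⟩ := exists_zs hp hf (h2 e hee)
    obtain ⟨r', hr'⟩ := exists_zs hp hf (h2 e' hee')
    refine exists_name tb hn hb hK hp hf hSna (hcfsg S)
      ((hrep.sub B.subtype B.subtype_injective).sub S.subtype S.subtype_injective) (h2 e hee) (h2 e' hee') hne hr hr'
      (hKe r hr) (hall e hee r hr).2.1 (hall e' hee' r' hr').2.1 ?_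
    rintro x (h | h)
    · exact (hall e hee r hr).1.cyc x h
    · exact (hall e' hee' r' hr').1.cyc x h

end Cfsg.Agent.H946.KZ
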