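import Cfsg.Agent.H290.ElCross
import Cfsg.Agent.H290.ElRich
import Cfsg.Agent.H192.SingerMain
import Cfsg.Agent.H264.FKS.Res

/-!
# Simple groups of small degree with two large Zsigmondy primes (helper946)

* `bnd n K L` : the prime divisors of the orders of the groups of Lie type with Landazuri-Seitz bound at most `n` are
  `≤ K` or in the list `L`;
* `exists_name` : a simple group of degree `n` in characteristic `p` whose order is divisible by Zsigmondy primes of
  `p ^ (c f) - 1`, `p ^ (c' f) - 1`, the first one larger than `K`, is of Lie type in characteristic `p`.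
-/

set_option autoImplicit false

namespace Cfsg.Agent.H946.KZ

open Cfsg Cfsg.Agent.OrdDiv Cfsg.Agent.H436 Cfsg.Agent.H902 Cfsg.Agent.H902.Names Cfsg.Agent.H915.GN
  Cfsg.Agent.H290.ElReg Cfsg.Agent.H290.ElTab Cfsg.Agent.H290.ElCross Cfsg.Agent.H264.FKS

/-- the prime divisors of the orders are at most `K` or in `L` -/
def bnd (n K : ℕ) (L : List ℕ) : Bool :=
  (reg n).all fun x => (pd (NS x.1 x.2.1 x.2.2)).all fun r => Nat.ble r K || L.contains r

theorem bnd_52 : bnd 52 103 [] = true := by decide +kernel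

theorem bnd_78 : bnd 78 157 [257] = true := by decide +kernel

theorem bnd_133 : bnd 133 265 [313, 521] = true := by decide +kernel

theorem bnd_248 : bnd 248 619 [] = true := by
  unfold bnd
  rw [List.all_eq_true]
  intro x _
  rw [List.all_eq_true]
  intro r hr
  rw [Bool.or_eq_true, Nat.ble_eq]
  have := prs_lt r (List.mem_filter.1 hr).1
  omega

/-- sporadic groups -/
theorem bnd_spor : (spor.all fun x => (pd x.2).all fun r => Nat.ble r 71) = true := by decide +kernel

theorem mod_of_prim {q e r : ℕ} (hq : 2 ≤ q) (he : 1 ≤ e) (h : Prim q e r) : e ∣ r - 1 := by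
  have := tord_of hq he h
  unfold tord at this
  simp only [Bool.and_eq_true, beq_iff_eq] at this
  exact Nat.dvd_of_mod_eq_zero this.1

theorem lt_of_prim {q e r : ℕ} (hq : 2 ≤ q) (he : 1 ≤ e) (h : Prim q e r) : e < r := by
  have h1 := mod_of_prim hq he h
  have h2 := h.prime.two_le
  have h3 := Nat.le_of_dvd (by omega) h1
  omega

/-- no group of Lie type in another characteristic -/
theorem no_cross {n K : ℕ} {L : List ℕ} (hn : n ≤ 248) (hb : bnd n K L = true) {X : Art.Sh} {l a N : ℕ} (hR : Art.Real X l a N)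
    (hlb : lb X (l ^ a) ≤ n) {r : ℕ} (hr : r.Prime) (hrK : K < r ∧ r ∉ L)
    (hrN : r ∣ N) : False := by
  obtain ⟨hl, ha, hokX, heq⟩ := hR
  have hreg := mem_reg hn hl ha hokX hlb
  have hs' : smooth (NA X l a) = true :=
    List.all_eq_true.1 smooth_reg (X, (l, a)) (mem_reg le_rfl hl ha hokX (hlb.trans hn))
  have hsS : smooth (NS X l a) = true := by
    have h1 : NS X l a ∣ NA X l a := Dvd.intro_left _ rfl
    have h2 : NA X l a ∣ prs.prod ^ 100 := Nat.dvd_of_mod_eq_zero (by simpa [smooth] using hs')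
    simpa [smooth] using Nat.mod_eq_zero_of_dvd (h1.trans h2)
  have hNM : N ∣ (l ^ a) ^ Art.NN X * numL X (l ^ a) := by rw [numL_eq, ← heq]; exact Dvd.intro_left _ rfl
  have hNS : r ∣ NS X l a := by
    unfold NS
    rcases hr.dvd_mul.1 (hrN.trans hNM) with h2 | h2
    · exact (hr.dvd_of_dvd_pow (hr.dvd_of_dvd_pow h2)).mul_right _
    · exact h2.mul_left _
  have h1 := List.all_eq_true.1 (List.all_eq_true.1 hb (X, (l, a)) hreg) r (mem_pd hsS hr hNS)
  rw [Bool.or_eq_true, Nat.ble_eq, List.contains_iff_mem] at h1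
  rcases h1 with h1 | h1
  · omega
  · exact hrK.2 h1

theorem no_spor {x : Cfsg.Agent.OrdDiv.Grp × ℕ} (hx : x ∈ spor) {r : ℕ} (hr : r.Prime) (h71 : 71 < r)
    (hrN : r ∣ x.2) : False := by
  have hs' : smooth x.2 = true := List.all_eq_true.1 smooth_spor x hx
  have h1 := List.all_eq_true.1 (List.all_eq_true.1 bnd_spor x hx) r (mem_pd hs' hr hrN)
  rw [Nat.ble_eq] at h1
  omega

theorem nilp_of_cyclic {S : Type*} [Group S] {x : S} (h : IsCyclic ↥(Subgroup.centralizer ({x} : Set S))) :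
    Group.IsNilpotent (Subgroup.centralizer ({x} : Set S)) := by
  let _ := IsCyclic.commGroup (α := ↥(Subgroup.centralizer ({x} : Set S)))
  infer_instance

/-- **The name.** -/
theorem exists_name (tb : OrderTable.{0}) {n K : ℕ} {L : List ℕ} (hn : n ≤ 248) (hb : bnd n K L = true) (hK : 71 ≤ K)
    {p f : ℕ}
    (hp : p.Prime) (hf : 4 ≤ f) {F : Type} [Field F] [CharP F p] {S : Type} [Group S] [Finite S] [IsSimpleGroup S]
    (hna : ¬ IsMulCommutative S) (hKn : IsKnownSimple' S) (hrep : Fth n F S) {c c' r r' : ℕ} (hc : 2 ≤ c) (hc' : 2 ≤ c')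
    (hcc : c ≠ c') (hr : Prim p (c * f) r) (hr' : Prim p (c' * f) r') (hrK : K < r ∧ r ∉ L) (hrS : r ∣ Nat.card S)
    (hrS' : r' ∣ Nat.card S)
    (hcyc : ∀ x : S, orderOf x = r ∨ orderOf x = r' → IsCyclic ↥(Subgroup.centralizer {x})) :
    ∃ g, IsNamed g S ∧ HasChar p g := by
  have hna' : ¬ ∀ a b : S, a * b = b * a := fun h => hna ⟨⟨h⟩⟩
  have h2p := hp.two_le
  have hcf : 8 ≤ c * f := by nlinarith
  have hcf' : 8 ≤ c' * f := by nlinarith
  obtain ⟨g, hgS⟩ := exists_named tb hKn hna'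
  rcases Cfsg.Agent.H192.Singer.cases_name hgS.cond with ⟨m, rfl⟩ | hsp | ⟨l, hl, hch⟩
  · exfalso
    obtain ⟨Φ⟩ : Nonempty (S ≃* alternatingGroup (Fin m)) := hgS.real
    have hm : 5 ≤ m := hgS.cond
    have key : ∀ {d s : ℕ}, 8 ≤ d * f → Prim p (d * f) s → s ∣ Nat.card S →
        (∀ x : S, orderOf x = s → IsCyclic ↥(Subgroup.centralizer {x})) → s ≤ m ∧ m ≤ s + 3 ∧ f ∣ s - 1 ∧ 1 ≤ s := by
      intro d s hd hs hsS hcs
      have h1 := lt_of_prim h2p (by omega) hs
      refine ⟨Cfsg.Agent.H290.ElRich.le_of_dvd_alt hs.prime (by omega) Φ hsS,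
        Cfsg.Agent.H290.ElRich.alt_le hs.prime (by omega) Φ hsS fun x hx => nilp_of_cyclic (hcs x hx),
        (Dvd.intro_left _ rfl).trans (mod_of_prim h2p (by omega) hs), by omega⟩
    obtain ⟨k1, k2, k3, k4⟩ := key hcf hr hrS fun x hx => hcyc x (Or.inl hx)
    obtain ⟨l1, l2, l3, l4⟩ := key hcf' hr' hrS' fun x hx => hcyc x (Or.inr hx)
    have hrr : r = r' := by
      by_contra hne
      rcases Nat.lt_or_gt_of_ne hne with h | h
      · have h7 := Nat.le_of_dvd (by omega) (Nat.dvd_sub l3 k3)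
        omega
      · have h7 := Nat.le_of_dvd (by omega) (Nat.dvd_sub k3 l3)
        omega
    subst hrr
    exact hcc (Nat.eq_of_mul_eq_mul_right (by omega) (hr.unique hr'))
  · exfalso
    have h1 := Cfsg.Agent.H192.Singer.spor_mem hsp
    have h2 : Nat.card S = ordN g := hgS.ord
    exact no_spor h1 hr.prime (by omega) (by rw [← h2]; exact hrS)
  · by_cases hpl : p = l
    · subst hpl
      exact ⟨g, hgS, hch⟩
    · exfalso
      obtain ⟨X, f₁, h1, h2, -⟩ := exists_lie hl hgS hch
      have hlF : (l : F) ≠ 0 := by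
        intro h
        exact hpl ((Nat.prime_dvd_prime_iff_eq hp hl).1 ((CharP.cast_eq_zero_iff F p l).1 h))
      have h3 := lb_le hna' hn hrep h1 hgS.real h2 hlF
      exact no_cross hn hb h2 h3 hr.prime hrK hrS

end Cfsg.Agent.H946.KZ
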