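import Cfsg.Agent.H946.KZ.Gap
import Cfsg.Agent.H57.BG.Gap

/-!
# `H57.BG.Row` for `F₄(q)`, `E₆(q)`, `²E₆(q)`, `E₇(q)`, `E₈(q)` (helper946, for S3561)
-/

set_option autoImplicit false

namespace Cfsg.Agent.H946.KZ

open Cfsg Cfsg.Agent.OrdDiv Cfsg.Agent.H436 Cfsg.Agent.H902 Cfsg.Agent.H56.Exc Cfsg.Agent.H915.GN
  Cfsg.Agent.H264.FKS Cfsg.Agent.H563.KG

universe u

variable (tb : OrderTable.{0}) (hcyc : CycFixSolv.{0}) (hcf : CF) {T : Type u} [Group T] [Finite T] [IsSimpleGroup T]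
  (hna : ¬ ∀ a b : T, a * b = b * a) {q : ℕ}

include hna in
theorem row_of_gap (h : ∀ {M : Subgroup T}, M ≠ ⊤ → H899.CG.IGap T M) : H57.BG.Row T :=
  H57.BG.row_of_iGap (H57.BG.center_eq_bot hna) fun _ hM => h hM.1

include tb hcyc hcf hna

/-- **`F₄(q)`** -/
theorem row_f4 (hT : IsNamed (.f4 q) T) : H57.BG.Row T := row_of_gap hna fun hM => iGap_f4 tb hcyc hcf hna hM hT

/-- **`E₆(q)`** -/
theorem row_e6 (hT : IsNamed (.e6 q) T) : H57.BG.Row T := row_of_gap hna fun hM => iGap_e6 tb hcyc hcf hna hM hT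

/-- **`E₇(q)`** -/
theorem row_e7 (hT : IsNamed (.e7 q) T) : H57.BG.Row T := row_of_gap hna fun hM => iGap_e7 tb hcyc hcf hna hM hT

/-- **`E₈(q)`** -/
theorem row_e8 (hT : IsNamed (.e8 q) T) : H57.BG.Row T := row_of_gap hna fun hM => iGap_e8 tb hcyc hcf hna hM hT

/-- **`²E₆(q)`** -/
theorem row_te6 (hT : IsNamed (.te6 q) T) : H57.BG.Row T := row_of_gap hna fun hM => iGap_te6 tb hcyc hcf hna hM hT

end Cfsg.Agent.H946.KZ
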